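import Mathlib
import Cfsg.Agent.Lib.SqChar2.Bld
import Cfsg.Agent.Lib.StGen.SpPair
import Cfsg.Agent.Lib.StGen.OmMain

/-!
Squares in the Sylow `2`-subgroups of `PSp` and `PΩ⁺`, in characteristic `2`.
-/

set_option autoImplicit false
set_option linter.unusedSectionVars false

namespace Cfsg.Agent.Lib.SqChar2.SpOm

open Cfsg.Agent.Lib.SqChar2.Root Cfsg.Agent.Lib.SqChar2.Bld Cfsg.Agent.Lib.SLSyl.Core

variable {F : Type*} [Field F] [Fintype F] [CharP F 2]

section Sp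

open Cfsg.Agent.Lib.StGen.SpPair

variable (n : ℕ) (F)

theorem good_Sp : GoodSyl (SpG n F) 2 :=
  good_of_chain (hord := ordS_inj) allData allData_inj allData_τ ord_surj allData_cov rh_inj gen_sup

/-- The symplectic groups. -/
theorem sqSyl_PSp : SqSyl (Cfsg.PSp (n + 1) F) :=
  sqSyl_quot _ (good_Sp F n)

end Sp

section Om

open Cfsg.Agent.Lib.StGen.OmMain Cfsg.Agent.Lib.StGen.OmRoot Cfsg.Agent.Lib.StGen.OmBase
open Cfsg.Agent.Lib.StGen.OmNodes
open Cfsg.Agent.Lib.StGen.SpPair (ordS_inj)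

variable (n : ℕ) (F)

theorem good_Om (hne : Fintype.card F ≠ 2 ∨ n + 2 ≠ 2) : GoodSyl (GG n F) 2 := by
  have hΩ := lifts hne
  refine good_of_builder (hord := ordS_inj) (allData hΩ) (allData_inj hΩ)
    (fun π hn => Cfsg.Agent.Lib.StGen.Builder.exists_word (hord := ordS_inj) (allData hΩ) (Rel := RelP)
      (allData_rel hΩ) (allData_rab hΩ) (allData_τ hΩ) (flip_exists hΩ hne) _ π rfl hn) rh_inj (KK_top hΩ) ?_
  intro m₀ π hm hj x' hx hy
  exact anti hΩ m₀ π hm hj x' hx hy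

/-- The orthogonal groups of plus type. -/
theorem sqSyl_POmegaPlus (hne : Fintype.card F ≠ 2 ∨ n + 2 ≠ 2) :
    SqSyl (Cfsg.POmega F (Cfsg.quadFormPlus (n + 2) F)) :=
  sqSyl_quot _ (good_Om F n hne)

end Om

end Cfsg.Agent.Lib.SqChar2.SpOm
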